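import Cfsg.Agent.CharactersDeep.Clifford
import Cfsg.Agent.Coprime.Basic
import Cfsg.Agent.FgsSix.SolvableLinear.Cases
import Cfsg.Agent.GaloisAverage.Basic
import Cfsg.Agent.Blocks.Height
import Cfsg.Agent.Codegree.Kernel
import Cfsg.Agent.Solvable.Fitting
import Cfsg.Agent.CharactersDeep.GoingDown
import Cfsg.Agent.PLocal.Cores

/-!
# Prime power divisors of the degree of a faithful character of a solvable group

If a Sylow `p`-subgroup is not normal, some prime power dividing the degree is `-1`, `0` or `1`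
modulo `p`.  Orbits of sizes without such divisors are fixed by all `p`-elements, and a nonabelian
section moved by a `p`-element is a symplectic module.
-/

set_option autoImplicit false
set_option linter.unusedSectionVars false
set_option linter.style.haveILetI false

namespace CfsgLib.PSolvableLinear

open Cfsg CfsgLib.Blocks
open CfsgLib.OddOrderChar (conjBy conjBy_apply conjBy_mul conjBy_one)

universe u v

/-- `t` has a nontrivial prime power divisor that is `-1`, `0` or `1` modulo `p`. -/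
def Good (p t : ℕ) : Prop :=
  ∃ q : ℕ, IsPrimePow q ∧ q ∣ t ∧
    ((q : ℤ) ≡ -1 [ZMOD p] ∨ (q : ℤ) ≡ 0 [ZMOD p] ∨ (q : ℤ) ≡ 1 [ZMOD p])

variable {p : ℕ} [hp : Fact p.Prime]

theorem Good.mono {s t : ℕ} (h : Good p s) (hst : s ∣ t) : Good p t :=
  let ⟨q, h1, h2, h3⟩ := h
  ⟨q, h1, h2.trans hst, h3⟩

theorem good_of_dvd {t : ℕ} (h : p ∣ t) : Good p t :=
  ⟨p, hp.out.isPrimePow, h, Or.inr (Or.inl ((Int.modEq_zero_iff_dvd).2 dvd_rfl))⟩

theorem good_of_modEq {ℓ t m c : ℕ} (hℓ : ℓ.Prime) (hℓp : ℓ ≠ p) (hc : c < m)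
    (hd : ℓ ^ (m - c) ∣ t) (h : ℓ ^ m ≡ ℓ ^ c [MOD p]) : Good p t := by
  refine ⟨ℓ ^ (m - c), hℓ.isPrimePow.pow (by omega), hd, Or.inr (Or.inr ?_)⟩
  have h' : ℓ ^ (m - c) ≡ 1 [MOD p] := by
    refine Nat.ModEq.cancel_left_of_coprime (c := ℓ ^ c)
      (((Nat.coprime_primes hp.out hℓ).2 (Ne.symm hℓp)).pow_right c) ?_
    rwa [← pow_add, Nat.add_sub_cancel' hc.le, mul_one]
  exact_mod_cast Int.natCast_modEq_iff.2 h'

theorem good_of_sq_modEq {ℓ t m c : ℕ} (hℓ : ℓ.Prime) (hℓp : ℓ ≠ p) (hc : c < m)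
    (hd : ℓ ^ (m - c) ∣ t) (h : (ℓ ^ m) ^ 2 ≡ (ℓ ^ c) ^ 2 [MOD p]) : Good p t := by
  refine ⟨ℓ ^ (m - c), hℓ.isPrimePow.pow (by omega), hd, ?_⟩
  have h' : (ℓ ^ (m - c)) ^ 2 ≡ 1 [MOD p] := by
    refine Nat.ModEq.cancel_left_of_coprime (c := (ℓ ^ c) ^ 2)
      ((((Nat.coprime_primes hp.out hℓ).2 (Ne.symm hℓp)).pow_right c).pow_right 2) ?_
    rwa [← mul_pow, ← pow_add, Nat.add_sub_cancel' hc.le, mul_one]
  have h2 : ((ℓ ^ (m - c) : ℕ) : ZMod p) ^ 2 = 1 := by
    have := (ZMod.natCast_eq_natCast_iff _ _ _).2 h'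
    simpa using this
  rcases sq_eq_one_iff.1 h2 with h3 | h3
  · refine Or.inr (Or.inr ((ZMod.intCast_eq_intCast_iff _ _ _).1 ?_))
    simpa using h3
  · refine Or.inl ((ZMod.intCast_eq_intCast_iff _ _ _).1 ?_)
    simpa using h3

/-- Fixed points of an automorphism of p-power order. -/
theorem card_modEq_fixed {V : Type v} [Group V] [Finite V] (φ : MulAut V) {j : ℕ}
    (hφ : φ ^ p ^ j = 1) :
    ∃ C : Subgroup V, (∀ x, x ∈ C ↔ φ x = x) ∧ Nat.card V ≡ Nat.card C [MOD p] := by
  let C : Subgroup V :=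
    { carrier := {x | φ x = x}
      one_mem' := map_one φ
      mul_mem' := fun {a b} (ha : φ a = a) (hb : φ b = b) =>
        show φ (a * b) = a * b by rw [map_mul, ha, hb]
      inv_mem' := fun {a} (ha : φ a = a) => show φ a⁻¹ = a⁻¹ by rw [map_inv, ha] }
  refine ⟨C, fun x => Iff.rfl, ?_⟩
  have hP : IsPGroup p (Subgroup.zpowers φ) := by
    obtain ⟨i, -, hi⟩ := (Nat.dvd_prime_pow hp.out).1 (orderOf_dvd_of_pow_eq_one hφ)
    exact IsPGroup.of_card (n := i) (by rw [Nat.card_zpowers, hi])
  refine (hP.card_modEq_card_fixedPoints V).trans ?_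
  have : MulAction.fixedPoints (Subgroup.zpowers φ) V = (C : Set V) := by
    ext x
    refine ⟨fun h => h ⟨φ, Subgroup.mem_zpowers φ⟩, fun h a => ?_⟩
    exact (show Subgroup.zpowers φ ≤ MulAction.stabilizer (MulAut V) x from
      Subgroup.zpowers_le.2 (show φ x = x from h)) a.2
  rw [this]
  rfl

/-- Orbits of sizes without good prime power divisors are fixed by all p-elements. -/
theorem mem_of_not_good {G : Type u} [Group G] [Finite G] (hsolv : Group.IsSolvable G)
    (I : Subgroup G) (hI : ¬ Good p I.index) {x : G} {j : ℕ} (hx : x ^ p ^ j = 1) : x ∈ I := by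
  classical
  induction hc : Nat.card G using Nat.strong_induction_on generalizing G with
  | _ m ih =>
    subst hc
    rcases subsingleton_or_nontrivial G with hG | hG
    · rw [Subsingleton.elim x 1]; exact one_mem I
    have key : ∀ (N : Subgroup G) [N.Normal], N ≠ ⊥ → ∀ J : Subgroup G, N ≤ J → I ≤ J → x ∈ J := by
      intro N _ hN J hNJ hIJ
      have hlt : Nat.card (G ⧸ N) < Nat.card G := by
        rw [Subgroup.card_eq_card_quotient_mul_card_subgroup N]
        exact lt_mul_of_one_lt_right Nat.card_pos (Subgroup.one_lt_card_iff_ne_bot _ |>.2 hN)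
      have h1 := ih _ hlt (G := G ⧸ N) inferInstance (J.map (QuotientGroup.mk' N))
        (fun h => hI (h.mono (by
          rw [Subgroup.index_map_eq _ (QuotientGroup.mk'_surjective N)
            (by rwa [QuotientGroup.ker_mk'])]
          exact Subgroup.index_dvd_of_le hIJ)))
        (x := QuotientGroup.mk' N x) (by rw [← map_pow, hx, map_one]) rfl
      rwa [← Subgroup.mem_comap, Subgroup.comap_map_eq, QuotientGroup.ker_mk',
        sup_eq_left.2 hNJ] at h1
    -- an elementary abelian normal subgroup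
    obtain ⟨A, hAn, hA0, hAc⟩ := FgsSix.SolvableLinear.exists_abelian_normal (G := G)
    obtain ⟨ℓ, hℓ, hℓA⟩ :=
      Nat.exists_prime_and_dvd (n := Nat.card A) fun h => hA0 (Subgroup.card_eq_one.1 h)
    let N : Subgroup G :=
      { carrier := {a | a ∈ A ∧ a ^ ℓ = 1}
        one_mem' := ⟨one_mem A, one_pow ℓ⟩
        mul_mem' := fun {a b} ha hb => ⟨mul_mem ha.1 hb.1, by
          rw [(show Commute a b from hAc a ha.1 b hb.1).mul_pow, ha.2, hb.2, one_mul]⟩
        inv_mem' := fun {a} ha => ⟨inv_mem ha.1, by rw [inv_pow, ha.2, inv_one]⟩ }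
    haveI hNn : N.Normal := ⟨fun a ha g =>
      ⟨hAn.conj_mem a ha.1 g, by rw [conj_pow, ha.2, mul_one, mul_inv_cancel]⟩⟩
    have hN0 : N ≠ ⊥ := by
      haveI := Fact.mk hℓ
      obtain ⟨a, ha⟩ := exists_prime_orderOf_dvd_card' ℓ hℓA
      intro h
      have h1 : (a : G) ∈ N := ⟨a.2, by
        rw [← SubgroupClass.coe_pow, ← ha, pow_orderOf_eq_one, OneMemClass.coe_one]⟩
      rw [h, Subgroup.mem_bot] at h1
      rw [show a = 1 from Subtype.ext h1, orderOf_one] at ha
      exact hℓ.one_lt.ne' ha.symm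
    by_cases hIN : I ⊔ N = ⊤
    swap
    · have hxJ := key N hN0 (I ⊔ N) le_sup_right le_sup_left
      have hlt : Nat.card ↥(I ⊔ N) < Nat.card G := Nat.lt_of_le_of_ne
        (Nat.le_of_dvd Nat.card_pos (Subgroup.card_subgroup_dvd_card _))
        fun h => hIN (Subgroup.eq_top_of_card_eq _ h)
      have h1 := ih _ hlt (G := ↥(I ⊔ N)) inferInstance (I.subgroupOf (I ⊔ N))
        (fun h => hI (h.mono (Dvd.intro _ (Subgroup.relIndex_mul_index le_sup_left))))
        (x := ⟨x, hxJ⟩) (Subtype.ext hx) rfl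
      exact h1
    by_cases hd : I ⊓ N = ⊥
    swap
    · haveI : (I ⊓ N).Normal := by
        refine Subgroup.normalizer_eq_top_iff.1 (top_le_iff.1 (hIN ▸ sup_le ?_ ?_))
        · intro i hi
          rw [Subgroup.mem_normalizer_iff]
          intro h
          simp only [Subgroup.mem_inf]
          refine and_congr ?_ ?_
          · exact ⟨fun hh => mul_mem (mul_mem hi hh) (inv_mem hi), fun hh => by
              simpa [mul_assoc] using mul_mem (mul_mem (inv_mem hi) hh) hi⟩
          · exact Subgroup.mem_normalizer_iff.1 (Subgroup.normalizer_eq_top (H := N) ▸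
              Subgroup.mem_top i) h
        · intro a ha
          refine Subgroup.centralizer_le_normalizer _ (Subgroup.mem_centralizer_iff.2 fun b hb => ?_)
          exact hAc b hb.2.1 a ha.1
      exact key (I ⊓ N) hd I inf_le_left le_rfl
    -- a complement
    have hNℓ : IsPGroup ℓ N := fun a => ⟨1, Subtype.ext (by rw [pow_one]; exact a.2.2)⟩
    haveI := Fact.mk hℓ
    obtain ⟨k, hk⟩ := IsPGroup.iff_card.1 hNℓ
    have hidx : I.index = ℓ ^ k := by
      have h := Coprime.card_sup_eq (N := N) (H := I)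
        (Subgroup.le_normalizer_of_normal) (by rwa [inf_comm])
      rw [sup_comm, hIN, Subgroup.card_top, ← Subgroup.card_mul_index I, hk,
        mul_comm (ℓ ^ k)] at h
      exact Nat.eq_of_mul_eq_mul_left Nat.card_pos h
    have hk0 : 0 < k := by
      by_contra h
      exact hN0 (Subgroup.card_eq_one.1 (by rw [hk, Nat.eq_zero_of_not_pos h, pow_zero]))
    have hℓp : ℓ ≠ p := fun h => hI (good_of_dvd (by rw [hidx, ← h]; exact dvd_pow_self ℓ hk0.ne'))
    obtain ⟨C, hC, hcard⟩ := card_modEq_fixed (MulAut.conjNormal (H := N) x) (p := p) (j := j)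
      (by rw [← map_pow, hx, map_one])
    by_cases hCtop : C = ⊤
    · obtain ⟨a, ha, u, hu, rfl⟩ := Coprime.exists_mul_of_mem_sup (N := N) (H := I)
        (Subgroup.le_normalizer_of_normal) (show x ∈ N ⊔ I by
          rw [sup_comm, hIN]; exact Subgroup.mem_top x)
      have h1 : Commute (a * u) a := by
        have h := congrArg Subtype.val ((hC ⟨a, ha⟩).1 (hCtop ▸ Subgroup.mem_top _))
        rw [MulAut.conjNormal_apply] at h
        exact mul_inv_eq_iff_eq_mul.1 h
      have h2 : Commute (a * u) a⁻¹ := h1.inv_right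
      have h3 : u ^ p ^ j = (a ^ p ^ j)⁻¹ := by
        conv_lhs => rw [← inv_mul_cancel_left a u]
        rw [h2.symm.mul_pow, hx, mul_one, inv_pow]
      have h4 : a ^ p ^ j ∈ I ⊓ N :=
        Subgroup.mem_inf.2 ⟨(I.inv_mem_iff).1 (h3 ▸ I.pow_mem hu _), N.pow_mem ha _⟩
      rw [hd, Subgroup.mem_bot] at h4
      have h5 : a = 1 := by
        rw [← orderOf_eq_one_iff]
        exact Nat.eq_one_of_dvd_coprimes
          (((Nat.coprime_primes hℓ hp.out).2 hℓp).pow_right j) (orderOf_dvd_of_pow_eq_one ha.2)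
          (orderOf_dvd_of_pow_eq_one h4)
      rwa [h5, one_mul]
    · exfalso
      obtain ⟨c, -, hcC⟩ := (Nat.dvd_prime_pow hℓ).1 (hk ▸ Subgroup.card_subgroup_dvd_card C)
      have hck : c < k := by
        by_contra h
        refine hCtop (Subgroup.eq_top_of_le_card _ ?_)
        rw [hcC, hk]
        exact Nat.pow_le_pow_right hℓ.pos (Nat.le_of_not_lt h)
      refine hI (good_of_modEq hℓ hℓp hck (by rw [hidx]; exact pow_dvd_pow ℓ (Nat.sub_le k c)) ?_)
      rwa [← hk, ← hcC]

section Symplectic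

variable {H : Type u} [Group H] [Fintype H] {V : Type v} [AddCommGroup V] [Module ℂ V]
  [FiniteDimensional ℂ V]

/-- A character vanishing off a subgroup of scalars is fully ramified over it. -/
theorem sq_mul_card_eq (τ : Representation ℂ H V) [τ.IsIrreducible] (Z : Subgroup H)
    (hscal : ∀ z ∈ Z, ∃ c : ℂ, τ z = c • LinearMap.id)
    (hvan : ∀ r, r ∉ Z → ∃ a : H, ∃ ω : ℂ, ω ≠ 1 ∧ τ (a * r * a⁻¹) = ω • τ r) :
    Module.finrank ℂ V ^ 2 * Nat.card Z = Nat.card H := by
  classical
  have hsum := GaloisAverage.sum_normSq_irr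
    (Characters.classInner_isIrr_self (Characters.isIrrCharacter_character τ))
  have hval : ∀ r : H, ‖τ.character r‖ ^ 2 =
      if r ∈ Z then (Module.finrank ℂ V : ℝ) ^ 2 else 0 := fun r => by
    split_ifs with hr
    · rw [(Characters.norm_char_eq_iff_scalar τ r).2 (hscal r hr)]
    · obtain ⟨a, ω, hω, h⟩ := hvan r hr
      have h1 : τ.character r = ω * τ.character r := by
        conv_lhs => rw [← Representation.char_conj τ r a]
        rw [Representation.character, h, map_smul, smul_eq_mul]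
        rfl
      have h2 : τ.character r = 0 := by
        by_contra h0
        exact hω ((mul_eq_right₀ h0).1 h1.symm)
      rw [h2, norm_zero, zero_pow two_ne_zero]
  rw [Finset.sum_congr rfl fun r _ => hval r, ← Finset.sum_filter, Finset.sum_const,
    nsmul_eq_mul, ← Fintype.card_subtype, ← Nat.card_eq_fintype_card, mul_comm] at hsum
  exact_mod_cast hsum

end Symplectic

section Main

variable {G : Type u} [Group G] [Fintype G]

theorem good_of_not_normal (χ : IrrCharacter G)
    (hfaith : ∀ g : G, (χ : G → ℂ) g = (χ : G → ℂ) 1 → g = 1)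
    (hsolv : Group.IsSolvable G) (P : Sylow p G) (hP : ¬ (P : Subgroup G).Normal) :
    Good p (Cfsg.charDegree (χ : G → ℂ)) := by
  classical
  by_contra hbad
  set n := Cfsg.charDegree (χ : G → ℂ) with hn
  -- constituents on normal subgroups
  have hcon : ∀ (M : Subgroup G) [M.Normal] (θ : IrrCharacter M) [Fintype M],
      Cfsg.classInner (fun m : M => (χ : G → ℂ) m) (θ : M → ℂ) ≠ 0 →
      (∀ (x : G) (j : ℕ), x ^ p ^ j = 1 → conjBy M (θ : M → ℂ) x = θ) ∧
      Cfsg.charDegree (θ : M → ℂ) ∣ n := by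
    intro M _ θ _ hθ
    let T : Subgroup G :=
      { carrier := {g | conjBy M (θ : M → ℂ) g = θ}
        one_mem' := conjBy_one M _
        mul_mem' := fun {a b} ha hb => by
          show conjBy M _ (a * b) = _
          rw [← conjBy_mul, show conjBy M (θ : M → ℂ) a = θ from ha]; exact hb
        inv_mem' := fun {a} ha => by
          show conjBy M _ a⁻¹ = _
          conv_lhs => rw [← show conjBy M (θ : M → ℂ) a = θ from ha]
          rw [conjBy_mul, mul_inv_cancel, conjBy_one] }
    have hT : (CharactersDeep.Clifford.orbit M (θ : M → ℂ)).card = T.index := by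
      have h := CharactersDeep.Clifford.card_orbit_mul M (θ : M → ℂ) T fun g => Iff.rfl
      rw [← T.card_mul_index, mul_comm] at h
      exact Nat.eq_of_mul_eq_mul_left Nat.card_pos h
    obtain ⟨e, he⟩ := Characters.classInner_character_irr
      (Characters.isCharacter_restrict M (Characters.isCharacter_of_isIrr χ.2)) θ.2
    have h1 := congrFun (CharactersDeep.Clifford.restrict_eq_orbit_sum M χ.2 θ.2 hθ) 1
    have hd : n = e * (T.index * Cfsg.charDegree (θ : M → ℂ)) := by
      apply Nat.cast_injective (R := ℂ)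
      rw [hn, charDegree_cast, Nat.cast_mul, Nat.cast_mul, charDegree_cast]
      rw [OneMemClass.coe_one, he, Pi.smul_apply, Finset.sum_apply, smul_eq_mul,
        Finset.sum_congr rfl (fun φ hφ => show φ 1 = (θ : M → ℂ) 1 by
          obtain ⟨g, rfl⟩ := (CharactersDeep.Clifford.mem_orbit M).1 hφ
          rw [conjBy_apply]
          exact congrArg (θ : M → ℂ) (Subtype.ext (by simp))),
        Finset.sum_const, nsmul_eq_mul, hT] at h1
      exact h1
    exact ⟨fun x j hx => mem_of_not_good hsolv T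
      (fun h => hbad (h.mono ⟨e * Cfsg.charDegree (θ : M → ℂ), by rw [hd]; ring⟩)) hx,
      ⟨e * T.index, by rw [hd]; ring⟩⟩
  -- the constituents separate the elements
  have hsep : ∀ (M : Subgroup G) [Fintype M] (r : M),
      (∀ θ : IrrCharacter M, Cfsg.classInner (fun m : M => (χ : G → ℂ) m) (θ : M → ℂ) ≠ 0 →
        (θ : M → ℂ) r = (θ : M → ℂ) 1) → r = 1 := by
    intro M _ r h
    refine Subtype.ext (hfaith _ ?_)
    obtain ⟨m, hm⟩ := Characters.exists_nat_coeff
      (Characters.isCharacter_restrict M (Characters.isCharacter_of_isIrr χ.2))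
    show (fun x : M => (χ : G → ℂ) x) r = (χ : G → ℂ) ((1 : M) : G)
    rw [show (χ : G → ℂ) ((1 : M) : G) = (fun x : M => (χ : G → ℂ) x) 1 from rfl, hm,
      Finset.sum_apply, Finset.sum_apply]
    refine Finset.sum_congr rfl fun θ _ => ?_
    by_cases h0 : m θ = 0
    · simp [h0]
    simp only [Pi.smul_apply]
    rw [h θ (by rw [hm, Characters.classInner_irr_coeff]; exact_mod_cast h0)]
  -- p-elements centralize abelian normal subgroups
  have hlin : ∀ (M : Subgroup G) [M.Normal] [Fintype M], (∀ a b : M, a * b = b * a) →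
      ∀ (x : G) (j : ℕ), x ^ p ^ j = 1 → x ∈ Subgroup.centralizer (M : Set G) := by
    intro M hMn _ hab x j hx
    refine Subgroup.mem_centralizer_iff.2 fun a ha => ?_
    set a' : M := ⟨a, ha⟩
    set b : M := ⟨x * a * x⁻¹, hMn.conj_mem a ha x⟩
    have hb : b * a'⁻¹ = 1 := hsep M _ fun θ hθ => by
      have h1 := CharactersDeep.GoingDown.linear_of_abelian hab θ
      obtain ⟨f, hf⟩ := Characters.exists_hom_of_degree_one (Characters.isCharacter_of_isIrr θ.2) h1
      have h2 : (θ : M → ℂ) b = (θ : M → ℂ) a' := by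
        have h3 := congrFun ((hcon M θ hθ).1 x j hx) a'
        rwa [conjBy_apply] at h3
      rw [hf] at h2 ⊢
      simp [map_mul, map_inv, show f b = f a' from Units.ext h2]
    have := congrArg Subtype.val (mul_inv_eq_one.1 hb)
    exact (mul_inv_eq_iff_eq_mul.1 this).symm
  -- the subgroup generated by the p-elements
  set S : Set G := {x | ∃ j : ℕ, x ^ p ^ j = 1} with hS
  set L := Subgroup.closure S with hL
  haveI : L.Normal := ⟨fun a ha g => by
    refine (show L ≤ L.comap (MulAut.conj g).toMonoidHom from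
      (Subgroup.closure_le _).2 fun x hx => ?_) ha
    obtain ⟨j, hj⟩ := hx
    exact Subgroup.subset_closure ⟨j, by
      show (g * x * g⁻¹) ^ p ^ j = 1
      rw [conj_pow, hj, mul_one, mul_inv_cancel]⟩⟩
  have hPS : ∀ x ∈ (P : Subgroup G), x ∈ S := fun x hx => by
    obtain ⟨j, hj⟩ := P.isPGroup' ⟨x, hx⟩
    exact ⟨j, congrArg Subtype.val hj⟩
  have hLab : ¬ L ≤ Subgroup.centralizer (L : Set G) := by
    intro hab
    refine hP ⟨fun y hy g => ?_⟩
    have hcomm : ∀ a ∈ L, ∀ b ∈ L, Commute a b := fun a ha b hb =>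
      (Subgroup.mem_centralizer_iff.1 (hab hb) a ha)
    let Q : Subgroup G :=
      { carrier := {a | a ∈ L ∧ a ∈ S}
        one_mem' := ⟨one_mem L, 0, by simp⟩
        mul_mem' := fun {a b} ⟨ha, i, hi⟩ ⟨hb, k, hk⟩ => ⟨mul_mem ha hb, i + k, by
          rw [(hcomm a ha b hb).mul_pow, pow_add, pow_mul, hi, one_pow, one_mul,
            mul_comm (p ^ i), pow_mul, hk, one_pow]⟩
        inv_mem' := fun {a} ⟨ha, i, hi⟩ => ⟨inv_mem ha, i, by rw [inv_pow, hi, inv_one]⟩ }
    have hQp : IsPGroup p Q := fun a => by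
      obtain ⟨i, hi⟩ := a.2.2
      exact ⟨i, Subtype.ext hi⟩
    have hPQ : (P : Subgroup G) ≤ Q := fun a ha =>
      ⟨Subgroup.subset_closure (hPS a ha), hPS a ha⟩
    rw [← P.is_maximal' hQp hPQ]
    obtain ⟨j, hj⟩ := hPS y hy
    have hgS : g * y * g⁻¹ ∈ S := ⟨j, by rw [conj_pow, hj, mul_one, mul_inv_cancel]⟩
    exact ⟨Subgroup.subset_closure hgS, hgS⟩
  -- a minimal normal subgroup of `L` not centralized by `L`
  obtain ⟨R, ⟨hRn, hRL, hRc⟩, hRmin⟩ : ∃ R : Subgroup G,
      (R.Normal ∧ R ≤ L ∧ ¬ L ≤ Subgroup.centralizer (R : Set G)) ∧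
      ∀ R' : Subgroup G, R'.Normal → R' < R → L ≤ Subgroup.centralizer (R' : Set G) := by
    obtain ⟨R, hR, hmin⟩ := (wellFounded_lt (α := Subgroup G)).has_min
      {R : Subgroup G | R.Normal ∧ R ≤ L ∧ ¬ L ≤ Subgroup.centralizer (R : Set G)}
      ⟨L, inferInstance, le_rfl, hLab⟩
    exact ⟨R, hR, fun R' hR' hlt => by
      by_contra h
      exact hmin R' ⟨hR', hlt.le.trans hR.2.1, h⟩ hlt⟩
  haveI := hRn
  haveI := Fintype.ofFinite R
  haveI := hsolv
  have hRab : ¬ ∀ a b : R, a * b = b * a := fun hab => hRc ((Subgroup.closure_le _).2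
    fun x ⟨j, hj⟩ => hlin R hab x j hj)
  have hR0 : R ≠ ⊥ := fun h => hRab fun a b => by
    have : Subsingleton R := by rw [h]; infer_instance
    exact Subsingleton.elim _ _
  have hRR : ⁅R, R⁆ < R := Group.IsSolvable.commutator_lt_of_ne_bot hR0
  have hRcomm : ∀ a b : R, a * b * a⁻¹ * b⁻¹ ∈ Subgroup.center R := fun a b => by
    refine Subgroup.mem_center_iff.2 fun c => Subtype.ext ?_
    have h := hRmin _ inferInstance hRR (hRL c.2)
    exact ((Subgroup.mem_centralizer_iff.1 h) _
      (Subgroup.commutator_mem_commutator a.2 b.2)).symm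
  haveI : Group.IsNilpotent R :=
    isNilpotent_of_ker_le_center (Abelianization.of (G := R)) (by
      rw [Abelianization.ker_of, commutator_def, Subgroup.commutator_le]
      intro a _ b _
      rw [commutatorElement_def]
      exact hRcomm a b)
  -- it is a group of prime power order
  obtain ⟨ℓ, hℓ, hRℓ⟩ : ∃ ℓ : ℕ, ℓ.Prime ∧ IsPGroup ℓ R := by
    by_contra hno
    refine hRc ?_
    have hall : ∀ q : (Nat.card R).primeFactors, L ≤ Subgroup.centralizer
        ((((default : Sylow (q : ℕ) R) : Subgroup R).map R.subtype : Subgroup G) : Set G) := by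
      intro q
      haveI := Fact.mk (Nat.prime_of_mem_primeFactors q.2)
      set Sy : Sylow (q : ℕ) R := default
      haveI : (Sy : Subgroup R).Normal :=
        (Group.isNilpotent_of_finite_tfae.out 0 3 rfl rfl).1 inferInstance q inferInstance Sy
      haveI : (Sy : Subgroup R).Characteristic := Sy.characteristic_of_normal inferInstance
      refine hRmin _ inferInstance (lt_of_le_of_ne (Subgroup.map_subtype_le _) fun h => hno
        ⟨q, Fact.out, ?_⟩)
      exact (Sy.isPGroup'.map R.subtype).to_le h.ge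
    have htop := congrArg (Subgroup.map R.subtype)
      (Solvable.iSup_sylow_eq_top (G := R) fun q => (default : Sylow (q : ℕ) R))
    rw [Subgroup.map_iSup, ← MonoidHom.range_eq_map, Subgroup.range_subtype] at htop
    rw [← htop]
    exact Subgroup.le_centralizer_iff.1 (iSup_le fun q => Subgroup.le_centralizer_iff.1 (hall q))
  haveI := Fact.mk hℓ
  obtain ⟨k, hk⟩ := IsPGroup.iff_card.1 hRℓ
  have hℓp : ℓ ≠ p := by
    intro h
    refine hRab fun a b => commutatorElement_eq_one_iff_mul_comm.1 ?_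
    rw [commutatorElement_def]
    refine hsep R _ fun θ hθ => ?_
    have h1 : Cfsg.charDegree (θ : R → ℂ) = 1 := by
      obtain ⟨i, -, hi⟩ := (Nat.dvd_prime_pow hℓ).1 (hk ▸ charDegree_dvd_card θ)
      rcases Nat.eq_zero_or_pos i with rfl | hi0
      · rw [hi, pow_zero]
      · exact absurd (good_of_dvd ((h ▸ hi ▸ dvd_pow_self ℓ hi0.ne' :
          p ∣ Cfsg.charDegree (θ : R → ℂ)).trans (hcon R θ hθ).2)) hbad
    obtain ⟨f, hf⟩ := Characters.exists_hom_of_degree_one (Characters.isCharacter_of_isIrr θ.2)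
      (by rw [← charDegree_cast, h1, Nat.cast_one])
    rw [hf]
    simp only [map_mul, map_inv, map_one]
    rw [mul_comm (f a), mul_inv_cancel_right, mul_inv_cancel]
  -- a p-element moving it
  obtain ⟨x, ⟨j, hj⟩, hxR⟩ : ∃ x ∈ S, x ∉ Subgroup.centralizer (R : Set G) := by
    by_contra hno
    push Not at hno
    exact hRc ((Subgroup.closure_le _).2 hno)
  set φ : MulAut R := MulAut.conjNormal (H := R) x with hφ
  have hφj : φ ^ p ^ j = 1 := by rw [hφ, ← map_pow, hj, map_one]
  apply hxR
  -- `x` acts trivially modulo every constituent centre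
  suffices htriv : ∀ (θ : IrrCharacter R),
      Cfsg.classInner (fun m : R => (χ : G → ℂ) m) (θ : R → ℂ) ≠ 0 →
      ∀ r a : R, (θ : R → ℂ) (a * (φ r * r⁻¹) * a⁻¹ * (φ r * r⁻¹)⁻¹) = (θ : R → ℂ) 1 by
    refine Subgroup.mem_centralizer_iff.2 fun r hr => ?_
    set r' : R := ⟨r, hr⟩
    set z := φ r' * r'⁻¹ with hz
    have hzc : z ∈ Subgroup.center R := Subgroup.mem_center_iff.2 fun a => by
      have h := hsep R _ fun θ hθ => htriv θ hθ r' a
      rw [mul_inv_eq_one, mul_inv_eq_iff_eq_mul] at h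
      exact h
    -- the centre is centralized by `x`
    have hfix : φ z = z := by
      let Z : Subgroup G := (Subgroup.center R).map R.subtype
      haveI : Fintype Z := Fintype.ofFinite Z
      have h := hlin Z (fun a b => Subtype.ext (by
        obtain ⟨a', ha', ha⟩ := a.2
        obtain ⟨b', -, hb⟩ := b.2
        rw [Subgroup.coe_mul, Subgroup.coe_mul, ← ha, ← hb, ← map_mul, ← map_mul,
          Subgroup.mem_center_iff.1 ha' b'])) x j hj
      refine Subtype.ext ?_
      rw [hφ, MulAut.conjNormal_apply, ← Subgroup.mem_centralizer_iff.1 h (z : G) ⟨z, hzc, rfl⟩,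
        mul_inv_cancel_right]
    have hiter : ∀ i : ℕ, (φ ^ i) r' = z ^ i * r' := by
      intro i
      induction i with
      | zero => simp
      | succ i ih =>
        rw [pow_succ', MulAut.mul_apply, ih, map_mul, map_pow, hfix, pow_succ, mul_assoc, hz,
          inv_mul_cancel_right]
    have h1 := hiter (p ^ j)
    rw [hφj, MulAut.one_apply, right_eq_mul] at h1
    obtain ⟨i, -, hi⟩ := (Nat.dvd_prime_pow hℓ).1 (hk ▸ orderOf_dvd_natCard z)
    have h2 : z = 1 := orderOf_eq_one_iff.1 (Nat.eq_one_of_dvd_coprimes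
      (((Nat.coprime_primes hℓ hp.out).2 hℓp).pow i j) (dvd_of_eq hi)
      (orderOf_dvd_of_pow_eq_one h1))
    have h3 := congrArg Subtype.val (mul_inv_eq_one.1 h2)
    rw [MulAut.conjNormal_apply] at h3
    exact (mul_inv_eq_iff_eq_mul.1 h3).symm
  intro θ hθ
  obtain ⟨d, σ, hσ, hσθ⟩ := id θ.2
  haveI := hσ
  have hφθ : ∀ r : R, σ.character (φ r) = σ.character r := fun r => by
    rw [hσθ]
    have h := congrFun ((hcon R θ hθ).1 x j hj) r
    rw [conjBy_apply] at h
    exact Eq.trans (congrArg (θ : R → ℂ) (Subtype.ext (MulAut.conjNormal_apply x r))) h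
  set Z := (Subgroup.centralizer (σ.toHomUnits.range : Set (Module.End ℂ (Fin d → ℂ))ˣ)).comap
    σ.toHomUnits with hZdef
  have hZ : ∀ r, r ∈ Z ↔ ∀ a : R, σ a * σ r = σ r * σ a := by
    intro r
    rw [hZdef, Subgroup.mem_comap, Subgroup.mem_centralizer_iff]
    exact ⟨fun h a => congrArg Units.val (h _ ⟨a, rfl⟩),
      fun h u ⟨a, ha⟩ => ha ▸ Units.ext (h a)⟩
  have hscal : ∀ r ∈ Z, ∃ c : ℂ, σ r = c • LinearMap.id := fun r hr =>
    Characters.schur_scalar σ (σ r) fun g v => LinearMap.congr_fun ((hZ r).1 hr g).symm v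
  -- the commutator scalars
  have hcs : ∀ a r : R, ∃ ω : ℂ, σ (a * r * a⁻¹ * r⁻¹) = ω • LinearMap.id ∧
      σ (a * r * a⁻¹) = ω • σ r := by
    intro a r
    obtain ⟨ω, hω⟩ := Characters.central_scalar σ (hRcomm a r)
    refine ⟨ω, hω, ?_⟩
    rw [← inv_mul_cancel_right (a * r * a⁻¹) r, map_mul, hω,
      show (LinearMap.id : (Fin d → ℂ) →ₗ[ℂ] _) = 1 from rfl, smul_mul_assoc, one_mul]
  have hone : ∀ a r : R, σ (a * r * a⁻¹ * r⁻¹) = 1 ↔ σ a * σ r = σ r * σ a := fun a r => by
    constructor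
    · intro h
      have h' : σ (a * r) = σ (a * r * a⁻¹ * r⁻¹) * σ (r * a) := by
        rw [← map_mul]; congr 1; group
      rwa [h, one_mul, map_mul, map_mul] at h'
    · intro h
      rw [show a * r * a⁻¹ * r⁻¹ = (a * r) * (r * a)⁻¹ by group, map_mul, map_mul σ a r, h,
        ← map_mul σ r a, ← map_mul, mul_inv_cancel, map_one]
  have hd0 : (Module.finrank ℂ (Fin d → ℂ) : ℂ) ≠ 0 := by
    rw [← Representation.char_one σ]
    exact Characters.irr_one_ne_zero (Characters.isIrrCharacter_character σ)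
  have hvan : ∀ r, r ∉ Z → ∃ a : R, ∃ ω : ℂ, ω ≠ 1 ∧ σ (a * r * a⁻¹) = ω • σ r := by
    intro r hr
    rw [hZ, not_forall] at hr
    obtain ⟨a, ha⟩ := hr
    obtain ⟨ω, hω, hω'⟩ := hcs a r
    refine ⟨a, ω, fun h1 => ha ((hone a r).1 ?_), hω'⟩
    rw [hω, h1, one_smul]
    rfl
  have hdZ : d ^ 2 * Nat.card Z = Nat.card R := by
    simpa using sq_mul_card_eq σ Z hscal hvan
  -- the preimage of the fixed points on `R / Z`
  have hker : ∀ r : R, σ r = 1 → σ (φ r) = 1 := fun r hr => by
    rw [← Codegree.char_eq_one_iff, hφθ, Codegree.char_eq_one_iff, hr]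
  haveI : Z.Normal := ⟨fun r hr a => (hZ _).2 fun b => by
    obtain ⟨c, hc⟩ := hscal r hr
    obtain ⟨ω, -, hω⟩ := hcs a r
    rw [hω, hc]
    ext v
    simp⟩
  have hφZ : ∀ r ∈ Z, φ r ∈ Z := fun r hr => (hZ _).2 fun a => by
    refine (hone _ _).1 ?_
    rw [show a * φ r * a⁻¹ * (φ r)⁻¹ = φ (φ.symm a * r * (φ.symm a)⁻¹ * r⁻¹) by simp]
    exact hker _ ((hone _ _).2 ((hZ r).1 hr _))
  have hφmap : Z.map φ.toMonoidHom = Z := by
    refine Subgroup.eq_of_le_of_card_ge (fun z hz => ?_) (le_of_eq ?_)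
    · obtain ⟨r, hr, rfl⟩ := hz
      exact hφZ r hr
    · exact (Subgroup.card_map_of_injective φ.injective).symm
  set ψ : MulAut (R ⧸ Z) := QuotientGroup.congr Z Z φ hφmap with hψ
  have hψa : ∀ r : R, ψ (r : R ⧸ Z) = ((φ r : R) : R ⧸ Z) := fun r => rfl
  have hψi : ∀ (i : ℕ) (r : R), (ψ ^ i) (r : R ⧸ Z) = (((φ ^ i) r : R) : R ⧸ Z) := by
    intro i
    induction i with
    | zero => intro r; rfl
    | succ i ih => intro r; rw [pow_succ', MulAut.mul_apply, ih, hψa, pow_succ', MulAut.mul_apply]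
  obtain ⟨C, hC, hcard⟩ := card_modEq_fixed ψ (p := p) (j := j) (MulEquiv.ext fun q => by
    obtain ⟨r, rfl⟩ := QuotientGroup.mk_surjective q
    rw [hψi, hφj]
    rfl)
  set K := C.comap (QuotientGroup.mk' Z) with hKdef
  have hK : ∀ r, r ∈ K ↔ φ r * r⁻¹ ∈ Z := fun r => by
    rw [hKdef, Subgroup.mem_comap, hC, QuotientGroup.mk'_apply, hψa, ← div_eq_mul_inv,
      ← QuotientGroup.eq_one_iff (N := Z) (φ r / r), QuotientGroup.mk_div, div_eq_one]
  have hZK : Z ≤ K := fun r hr => (hK r).2 (mul_mem (hφZ r hr) (inv_mem hr))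
  by_cases hKtop : K = ⊤
  · intro r a
    have h : φ r * r⁻¹ ∈ Z := (hK r).1 (hKtop ▸ Subgroup.mem_top r)
    rw [← hσθ, Codegree.char_eq_one_iff]
    exact (hone _ _).2 ((hZ _).1 h a)
  exfalso
  -- nondegeneracy on the fixed points
  have hnd : ∀ r ∈ K, r ∉ Z → ∃ a ∈ K, σ a * σ r ≠ σ r * σ a := by
    intro r hr hrZ
    by_contra hno
    push Not at hno
    apply hrZ
    rw [hZ]
    intro a
    -- the elements commuting with `r` in the representation
    let B : Subgroup R := (Subgroup.centralizer ({σ.toHomUnits r} :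
      Set (Module.End ℂ (Fin d → ℂ))ˣ)).comap σ.toHomUnits
    have hB : ∀ b, b ∈ B ↔ σ b * σ r = σ r * σ b := fun b => by
      rw [Subgroup.mem_comap, Subgroup.mem_centralizer_singleton_iff, Units.ext_iff]
      rfl
    have hKB : K ≤ B := fun b hb => (hB b).2 (hno b hb)
    have hφB : ∀ b ∈ B, φ b ∈ B := fun b hb => by
      rw [hB]
      have h1 : σ (φ b) * σ (φ r) = σ (φ r) * σ (φ b) := (hone _ _).1 (by
        rw [← map_inv φ, ← map_inv φ, ← map_mul, ← map_mul, ← map_mul]
        exact hker _ ((hone _ _).2 ((hB b).1 hb)))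
      obtain ⟨c, hc⟩ := hscal _ ((hK r).1 hr)
      have h2 : σ (φ r) = c • σ r := by
        rw [← inv_mul_cancel_right (φ r) r, map_mul, hc,
          show (LinearMap.id : (Fin d → ℂ) →ₗ[ℂ] _) = 1 from rfl, smul_mul_assoc, one_mul]
      have hc0 : c ≠ 0 := by
        intro h0
        have := congrArg (fun f => f * σ (φ r)⁻¹) h2
        simp only [h0, zero_smul, zero_mul, ← map_mul, mul_inv_cancel, map_one] at this
        exact hd0 (by rw [← Representation.char_one σ, Representation.character, map_one, this,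
          map_zero])
      rw [h2, mul_smul_comm, smul_mul_assoc] at h1
      exact smul_right_injective _ hc0 h1
    -- a fixed point in the coset of `a`
    suffices h : a ∈ B from (hB a).1 h
    let O : SubMulAction (Subgroup.zpowers φ) R :=
      { carrier := {b | a⁻¹ * b ∈ B}
        smul_mem' := fun g b hb => by
          obtain ⟨i, hi⟩ := Submonoid.mem_powers_iff _ _ |>.1 (mem_powers_iff_mem_zpowers.2 g.2)
          show a⁻¹ * (g : MulAut R) b ∈ B
          rw [← hi]
          have : ∀ i : ℕ, ∀ b, a⁻¹ * b ∈ B → a⁻¹ * (φ ^ i) b ∈ B := by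
            intro i
            induction i with
            | zero => intro b hb; simpa using hb
            | succ i ih =>
              intro b hb
              rw [pow_succ, MulAut.mul_apply]
              refine ih _ ?_
              have h1 : a⁻¹ * φ b = a⁻¹ * φ a * φ (a⁻¹ * b) := by simp [mul_assoc]
              rw [h1]
              refine mul_mem ?_ (hφB _ hb)
              rw [hB]
              -- commutators with `r` do not change under `φ`
              obtain ⟨ω, hω, hω'⟩ := hcs a r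
              obtain ⟨ω', hω2, hω2'⟩ := hcs (φ a) r
              have hφcs : σ.character (φ a * φ r * (φ a)⁻¹ * (φ r)⁻¹) =
                  σ.character (a * r * a⁻¹ * r⁻¹) := by
                rw [← map_inv φ, ← map_inv φ, ← map_mul, ← map_mul, ← map_mul, hφθ]
              obtain ⟨c, hc⟩ := hscal _ ((hK r).1 hr)
              have hre : φ a * φ r * (φ a)⁻¹ * (φ r)⁻¹ =
                  (φ a * (φ r * r⁻¹) * (φ a)⁻¹) * (φ a * r * (φ a)⁻¹ * r⁻¹) * (φ r * r⁻¹)⁻¹ := by
                group
              have hcz : σ (φ a * (φ r * r⁻¹) * (φ a)⁻¹) = σ (φ r * r⁻¹) := by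
                rw [map_mul, map_mul, hc, show (LinearMap.id : (Fin d → ℂ) →ₗ[ℂ] _) = 1 from rfl,
                  mul_smul_comm, mul_one, smul_mul_assoc, ← map_mul, mul_inv_cancel, map_one]
              have hzz : σ (φ a * φ r * (φ a)⁻¹ * (φ r)⁻¹) = ω' • LinearMap.id := by
                rw [hre, map_mul, map_mul, hcz, hω2,
                  show (LinearMap.id : (Fin d → ℂ) →ₗ[ℂ] _) = 1 from rfl,
                  mul_smul_comm, mul_one, smul_mul_assoc, ← map_mul, mul_inv_cancel, map_one]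
              have hωω : ω = ω' := by
                rw [Representation.character, Representation.character, hzz, hω, map_smul,
                  map_smul, LinearMap.trace_id, smul_eq_mul, smul_eq_mul,
                  mul_left_inj' hd0] at hφcs
                exact hφcs.symm
              refine (hone _ _).1 ?_
              obtain ⟨ω'', h3, h3'⟩ := hcs (a⁻¹ * φ a) r
              rw [h3]
              have hexp : σ (a⁻¹ * φ a * r * (a⁻¹ * φ a)⁻¹) =
                  σ a⁻¹ * σ (φ a * r * (φ a)⁻¹) * σ a := by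
                rw [← map_mul, ← map_mul]; congr 1; group
              have hexp2 : σ a⁻¹ * σ (a * r * a⁻¹) * σ a = σ r := by
                rw [← map_mul, ← map_mul]; congr 1; group
              rw [hω2', ← hωω, ← hω', hexp2, h3'] at hexp
              have h4 : ω'' = 1 := by
                have h5 := congrArg (fun f => f * σ r⁻¹) hexp
                simp only [smul_mul_assoc, ← map_mul, mul_inv_cancel, map_one] at h5
                have h6 := congrArg (LinearMap.trace ℂ (Fin d → ℂ)) h5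
                simp only [map_smul, LinearMap.trace_one, smul_eq_mul] at h6
                first
                  | exact (mul_eq_right₀ hd0).1 h6
                  | exact (mul_eq_right₀ hd0).1 h6.symm
              rw [h4, one_smul]
              rfl
          exact this i b hb }
    have hOcard : Nat.card O = Nat.card B := Nat.card_congr
      { toFun := fun b => ⟨a⁻¹ * b, b.2⟩
        invFun := fun b => ⟨a * b, show a⁻¹ * (a * (b : R)) ∈ B by simp⟩
        left_inv := fun b => Subtype.ext (by simp)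
        right_inv := fun b => Subtype.ext (by simp) }
    have hφp : IsPGroup p (Subgroup.zpowers φ) := by
      obtain ⟨i, -, hi⟩ := (Nat.dvd_prime_pow hp.out).1 (orderOf_dvd_of_pow_eq_one hφj)
      exact IsPGroup.of_card (n := i) (by rw [Nat.card_zpowers, hi])
    obtain ⟨b, hb⟩ := hφp.nonempty_fixed_point_of_prime_not_dvd_card O (by
      rw [hOcard]
      intro h
      exact hℓp (((Nat.prime_dvd_prime_iff_eq hp.out hℓ).1 (hp.out.dvd_of_dvd_pow
        (hk ▸ h.trans (Subgroup.card_subgroup_dvd_card B)))).symm))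
    have hbfix : φ (b : R) = b := congrArg Subtype.val (hb ⟨φ, Subgroup.mem_zpowers φ⟩)
    have h1 : (b : R) ∈ B := hKB ((hK _).2 (by rw [hbfix, mul_inv_cancel]; exact one_mem Z))
    have h2 : a⁻¹ * (b : R) ∈ B := b.2
    simpa using mul_mem h1 (inv_mem h2)
  -- the fixed points have square order
  haveI : Fintype K := Fintype.ofFinite K
  haveI := Characters.nontrivial_of_isIrreducible σ
  let σK : Representation ℂ K (Fin d → ℂ) := σ.comp K.subtype
  obtain ⟨U, hU⟩ := Characters.exists_irreducible_subrep σK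
  haveI := hU
  have hUsub : ∀ (g : K) (v : U.toSubmodule), (U.toRepresentation g v : Fin d → ℂ) = σ g v :=
    fun g v => rfl
  have hKZ : Module.finrank ℂ U.toSubmodule ^ 2 * Nat.card (Z.subgroupOf K) = Nat.card K := by
    refine sq_mul_card_eq U.toRepresentation (Z.subgroupOf K) (fun z hz => ?_) fun r hr => ?_
    · obtain ⟨c, hc⟩ := hscal (z : R) hz
      exact ⟨c, LinearMap.ext fun v => Subtype.ext (by rw [hUsub, hc]; rfl)⟩
    · obtain ⟨a, ha, hne⟩ := hnd (r : R) r.2 hr
      obtain ⟨ω, hω, hω'⟩ := hcs a r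
      refine ⟨⟨a, ha⟩, ω, fun h1 => hne ((hone a r).1 (by rw [hω, h1, one_smul]; rfl)), ?_⟩
      exact LinearMap.ext fun v => Subtype.ext (by rw [hUsub]; exact LinearMap.congr_fun hω' v)
  rw [Nat.card_congr (Subgroup.subgroupOfEquivOfLe hZK).toEquiv] at hKZ
  obtain ⟨c, -, hc⟩ := (Nat.dvd_prime_pow hℓ).1 (hk ▸ (Dvd.dvd.trans
    ((dvd_pow_self (Module.finrank ℂ U.toSubmodule) two_ne_zero).trans (Dvd.intro _ hKZ))
    (Subgroup.card_subgroup_dvd_card K)))
  obtain ⟨m, -, hm⟩ := (Nat.dvd_prime_pow hℓ).1 (hk ▸ ((dvd_pow_self d two_ne_zero).trans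
    (Dvd.intro _ hdZ)))
  have hcm : c < m := by
    by_contra h
    refine hKtop (Subgroup.eq_top_of_le_card _ ?_)
    rw [← hdZ, ← hKZ, hc, hm]
    exact Nat.mul_le_mul_right _ (Nat.pow_le_pow_left (Nat.pow_le_pow_right hℓ.pos
      (Nat.le_of_not_lt h)) 2)
  have hZ0 : Nat.card Z ≠ 0 := Nat.card_pos.ne'
  have hq1 : Nat.card (R ⧸ Z) = (ℓ ^ m) ^ 2 := by
    have h := Subgroup.card_eq_card_quotient_mul_card_subgroup Z
    rw [← hdZ, hm] at h
    exact (Nat.eq_of_mul_eq_mul_right Nat.card_pos h).symm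
  have hq2 : Nat.card C = (ℓ ^ c) ^ 2 := by
    have h2 := Subgroup.relIndex_ker (K := K) (QuotientGroup.mk' Z)
    rw [hKdef, Subgroup.map_comap_eq_self_of_surjective (QuotientGroup.mk'_surjective Z),
      QuotientGroup.ker_mk', ← hKdef] at h2
    have h := PLocal.card_mul_relIndex hZK
    rw [h2, ← hKZ, hc, mul_comm] at h
    exact Nat.eq_of_mul_eq_mul_right Nat.card_pos h
  rw [hq1, hq2] at hcard
  refine hbad ((good_of_sq_modEq hℓ hℓp hcm (pow_dvd_pow ℓ (Nat.sub_le m c)) hcard).mono ?_)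
  refine dvd_trans (dvd_of_eq ?_) (hcon R θ hθ).2
  apply Nat.cast_injective (R := ℂ)
  rw [charDegree_cast, ← hσθ, Representation.char_one, Module.finrank_fin_fun, hm]

end Main

end CfsgLib.PSolvableLinear
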