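import Cfsg.Agent.ConstrainedBlock.Local
import Cfsg.Agent.PRationalExtension.Congruence
import Cfsg.Agent.CharactersDeep.Clifford
import Cfsg.Agent.Codegree.Kernel
import Cfsg.Agent.S4488

/-!
# A p-rational character on a group with a normal p'-subgroup of p-power index

Replacing each constituent by the one induced from the canonical extension of a constituent on `Q`
gives a p-rational character with the same restriction to `Q`; its kernel centralizes `Q`, so
Schur's bound applies to the index of `Q C(Q)`.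
-/

set_option autoImplicit false
set_option linter.unusedSectionVars false
set_option linter.style.haveILetI false

namespace CfsgLib.PSolvableLinear

open Cfsg CfsgLib.Blocks
open CfsgLib.OddOrderChar (conjBy conjBy_apply conjBy_mul conjBy_one)

universe u

variable {X : Type u} [Group X] [Fintype X] {p : ℕ} [Fact p.Prime]

/-- An irreducible character has a p-rational companion proportional to it on `Q`. -/
theorem exists_fixed_over (Q : Subgroup X) [Q.Normal] (hQ : ¬ p ∣ Nat.card Q)
    (hq : IsPGroup p (X ⧸ Q)) {a : ℕ} (hcard : Nat.card X ∣ p ^ a * Nat.card Q)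
    (η : IrrCharacter X) :
    ∃ η₀ : X → ℂ, Cfsg.IsCharacter X η₀ ∧ PRationalExtension.RatFixed p a (Nat.card Q) η₀ ∧
      ∃ e : ℕ, 0 < e ∧ ∀ q ∈ Q, (η : X → ℂ) q = (e : ℂ) * η₀ q := by
  classical
  haveI := Fintype.ofFinite Q
  have hres := Characters.isCharacter_restrict Q (Characters.isCharacter_of_isIrr η.2)
  obtain ⟨θ, hθ⟩ : ∃ θ : IrrCharacter Q,
      Cfsg.classInner (fun n : Q => (η : X → ℂ) n) (θ : Q → ℂ) ≠ 0 := by
    by_contra hc
    push Not at hc
    have h := congrFun
      (Characters.classFunction_expansion (Characters.isClassFunction_of_isCharacter hres)) 1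
    simp [hc] at h
    exact Characters.irr_one_ne_zero η.2 h
  let T : Subgroup X :=
    { carrier := {g | conjBy Q (θ : Q → ℂ) g = θ}
      one_mem' := conjBy_one Q _
      mul_mem' := fun {a b} ha hb => by
        show conjBy Q _ (a * b) = _
        rw [← conjBy_mul, show conjBy Q (θ : Q → ℂ) a = θ from ha]; exact hb
      inv_mem' := fun {a} ha => by
        show conjBy Q _ a⁻¹ = _
        conv_lhs => rw [← show conjBy Q (θ : Q → ℂ) a = θ from ha]
        rw [conjBy_mul, mul_inv_cancel, conjBy_one] }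
  have hQT : Q ≤ T := fun m hm => by
    show conjBy Q (θ : Q → ℂ) m = θ
    funext n
    exact Characters.isClassFunction_of_isIrr θ.2 n ⟨m, hm⟩
  haveI := Fintype.ofFinite T
  obtain ⟨ψ, e, he, -, hind, hψQ, -⟩ := CharactersDeep.Clifford.exists_induced_from_inertia Q θ.2 T
    (fun g => Iff.rfl) hQT η.2 hθ
  -- the canonical extension
  haveI := Fintype.ofFinite (Q.subgroupOf T)
  let E : Q.subgroupOf T ≃* Q := Subgroup.subgroupOfEquivOfLe hQT
  let θ' : IrrCharacter (Q.subgroupOf T) := ⟨_, ConstrainedBlock.isIrr_comp_equiv E θ⟩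
  have hcQ : Nat.card (Q.subgroupOf T) = Nat.card Q := Nat.card_congr E.toEquiv
  obtain ⟨φ, -, hφdet, hφres, huniq⟩ := BlocksCharsC.exists_canonical (p := p)
    (((Fact.out : p.Prime).coprime_iff_not_dvd.2 hQ).symm) (Q.subgroupOf T)
    (by
      obtain ⟨j, hj⟩ := IsPGroup.iff_card.1 hq
      obtain ⟨i, -, hi⟩ := (Nat.dvd_prime_pow (Fact.out : p.Prime)).1
        (hj ▸ (show Q.relIndex T ∣ Nat.card (X ⧸ Q) from Q.relIndex_dvd_index_of_normal T))
      exact IsPGroup.of_card hi)
    θ'.2 (hcQ ▸ ConstrainedBlock.detExp_natCard θ'.2)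
    (fun g => funext fun n => by
      rw [conjBy_apply]
      exact Eq.trans (congrArg (θ : Q → ℂ) (Subtype.ext rfl)) (congrFun g.2 (E n)))
    (ConstrainedBlock.not_dvd_charDegree (by rwa [hcQ]) θ')
  refine ⟨Cfsg.indFun T φ, Characters.isCharacter_indFun T hφdet.isCharacter, ?_, e, he, ?_⟩
  · intro k hk hk1 g
    have hkX : Nat.Coprime k (Nat.card X) := hk.coprime_dvd_right hcard
    have hkT : Nat.Coprime k (Nat.card T) :=
      hkX.coprime_dvd_right (Subgroup.card_subgroup_dvd_card T)
    have hfix : (fun t : T => φ (t ^ k)) = φ := huniq _ (hφdet.pow hkT) fun n => by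
      show φ ((n : T) ^ k) = _
      rw [← SubgroupClass.coe_pow, hφres]
      refine congrArg (θ' : Q.subgroupOf T → ℂ) ?_
      rw [pow_eq_pow_mod k (show n ^ Nat.card Q = 1 by rw [← hcQ, pow_card_eq_one']), hk1,
        ← pow_eq_pow_mod 1 (show n ^ Nat.card Q = 1 by rw [← hcQ, pow_card_eq_one']), pow_one]
    simp only [Cfsg.indFun]
    congr 1
    refine Finset.sum_congr rfl fun x _ => ?_
    rw [show x⁻¹ * g ^ k * x = (x⁻¹ * g * x) ^ k by
      have h := (conj_pow (a := x⁻¹) (b := g) (i := k)).symm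
      rwa [inv_inv] at h]
    by_cases h : x⁻¹ * g * x ∈ T
    · rw [Characters.extendByZero_of_mem T φ h, Characters.extendByZero_of_mem T φ (pow_mem h k)]
      exact congrFun hfix ⟨_, h⟩
    · rw [Characters.extendByZero_of_not_mem T φ h, Characters.extendByZero_of_not_mem T φ]
      intro h'
      obtain ⟨l, hl⟩ := exists_pow_eq_self_of_coprime
        (hkX.coprime_dvd_right (orderOf_dvd_natCard (x⁻¹ * g * x)))
      exact h (hl ▸ pow_mem h' l)
  · intro q hq
    rw [← hind]
    simp only [Cfsg.indFun, Finset.mul_sum]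
    refine Finset.sum_congr rfl fun x _ => ?_
    have hc : x⁻¹ * q * x ∈ Q := by
      simpa using (inferInstance : Q.Normal).conj_mem q hq x⁻¹
    rw [Characters.extendByZero_of_mem T ψ (hQT hc), Characters.extendByZero_of_mem T φ (hQT hc)]
    have h1 := congrFun hψQ ⟨_, hc⟩
    simp only [Pi.smul_apply, smul_eq_mul] at h1
    have h2 := hφres ⟨⟨_, hQT hc⟩, hc⟩
    rw [h1, h2]
    show _ = _ * (_ * (θ : Q → ℂ) (E ⟨⟨_, hQT hc⟩, hc⟩))
    rw [mul_left_comm]
    rfl

/-- **Schur's bound for the action on a normal p'-subgroup.** -/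
theorem factorization_index_le (Q : Subgroup X) [Q.Normal] (hQ : ¬ p ∣ Nat.card Q)
    (hq : IsPGroup p (X ⧸ Q)) {χ : X → ℂ} (hχ : Cfsg.IsCharacter X χ)
    (hfaith : ∀ x : X, χ x = χ 1 → x = 1) {n : ℕ} (hn : χ 1 = (n : ℂ)) :
    (Q ⊔ Subgroup.centralizer (Q : Set X)).index.factorization p ≤
      ∑ i ∈ Finset.range (n + 1), n / ((p - 1) * p ^ i) := by
  classical
  have hp : p.Prime := Fact.out
  obtain ⟨a, ha⟩ := IsPGroup.iff_card.1 hq
  have hcard : Nat.card X ∣ p ^ a * Nat.card Q := by
    rw [Subgroup.card_eq_card_quotient_mul_card_subgroup Q, ha]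
  obtain ⟨m, hm⟩ := Characters.exists_nat_coeff hχ
  choose η₀ h₀c h₀f e _he hres using fun η : IrrCharacter X => exists_fixed_over Q hQ hq hcard η
  set Φ : X → ℂ := ∑ η : IrrCharacter X, ((m η * e η : ℕ) : ℂ) • η₀ η with hΦ
  have hΦc : Cfsg.IsCharacter X Φ :=
    Characters.isCharacter_sum _ _ fun η _ => Characters.isCharacter_natCast_smul (h₀c η) _
  have hΦfix : PRationalExtension.RatFixed p a (Nat.card Q) Φ := fun k hk hk1 g => by
    simp only [hΦ, Finset.sum_apply, Pi.smul_apply, h₀f _ k hk hk1]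
  have hΦQ : ∀ q ∈ Q, Φ q = χ q := fun q hq => by
    rw [hm]
    simp only [hΦ, Finset.sum_apply, Pi.smul_apply, smul_eq_mul, hres _ q hq, Nat.cast_mul,
      mul_assoc]
  obtain ⟨d, ρ, hρ⟩ := id hΦc
  set K := MonoidHom.ker ρ with hK
  have hKle : K ≤ Subgroup.centralizer (Q : Set X) := by
    intro x hx
    refine Subgroup.mem_centralizer_iff.2 fun q hq => ?_
    have h1 : q * x * q⁻¹ * x⁻¹ ∈ Q := by
      rw [mul_assoc, mul_assoc, ← mul_assoc x]
      exact mul_mem hq ((inferInstance : Q.Normal).conj_mem _ (inv_mem hq) x)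
    have h2 : q * x * q⁻¹ * x⁻¹ ∈ K :=
      mul_mem ((inferInstance : K.Normal).conj_mem _ hx q) (inv_mem hx)
    have h3 : χ (q * x * q⁻¹ * x⁻¹) = χ 1 := by
      rw [← hΦQ _ h1, ← hΦQ _ (one_mem Q), ← hρ, Codegree.char_eq_one_iff]
      exact MonoidHom.mem_ker.1 h2
    exact commutatorElement_eq_one_iff_mul_comm.1
      (by rw [commutatorElement_def]; exact hfaith _ h3)
  let R : Representation ℂ (X ⧸ K) (Fin d → ℂ) := QuotientGroup.lift K ρ le_rfl
  have hR : ∀ x : X, R.character (x : X ⧸ K) = Φ x := fun x => by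
    rw [← hρ]
    rfl
  have hR1 : R.character 1 = (n : ℂ) := by
    rw [← QuotientGroup.mk_one, hR, hΦQ _ (one_mem Q), hn]
  have hb := Cfsg.Agent.S4488.result (G := X ⧸ K) p hp R.character
    (Characters.isCharacter_character R)
    (fun g hg => by
      obtain ⟨x, rfl⟩ := QuotientGroup.mk_surjective g
      rw [← QuotientGroup.mk_one, hR, hR, ← hρ, Codegree.char_eq_one_iff] at hg
      exact (QuotientGroup.eq_one_iff x).2 (MonoidHom.mem_ker.2 hg))
    ⟨Nat.card Q, Nat.card_pos, hQ, fun g => by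
      obtain ⟨x, rfl⟩ := QuotientGroup.mk_surjective g
      rw [hR]
      exact PRationalExtension.mem_adjoin_of_ratFixed hQ hcard hΦc hΦfix x⟩
    n (by rw [Cfsg.charDegree, hR1]; simp)
  refine le_trans ?_ hb
  rw [← Subgroup.index_eq_card]
  exact (Nat.factorization_le_iff_dvd Subgroup.index_ne_zero_of_finite
    Subgroup.index_ne_zero_of_finite).2 (Subgroup.index_dvd_of_le (hKle.trans le_sup_right)) p

end CfsgLib.PSolvableLinear
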