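import Cfsg.Agent.CharactersDeep.SmallDegree
import Cfsg.Agent.Coprime.Action
import Cfsg.Agent.PLocal.PSolvable
import Cfsg.Agent.Solvable.Fitting
import Cfsg.Agent.Blocks.Height

/-!
# p-solvable linear groups of degree less than p

A `p`-element normalizing but not centralizing a `p'`-subgroup forces degree at least `p - 1`;
in degree `p - 1` the subgroup it acts on has irreducible join with it.
-/

set_option autoImplicit false
set_option linter.unusedSectionVars false
set_option linter.style.haveILetI false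

namespace CfsgLib.PSolvableLinear

open Cfsg CfsgLib.Blocks
open scoped ComplexConjugate

universe u

variable {G : Type u} [Group G] [Fintype G] {p : ℕ} [Fact p.Prime]

open Classical in
/-- The join of `R` and a p-element with central p-th power. -/
theorem key_step {χ : G → ℂ} (hχ : Cfsg.IsCharacter G χ) (hfaith : ∀ g : G, χ g = χ 1 → g = 1)
    {n : ℕ} (hn : χ 1 = (n : ℂ)) (hnp : n + 1 ≤ p) {y : G} (hy : IsPGroup p (Subgroup.zpowers y))
    {R : Subgroup G} (hyR : y ∈ Subgroup.normalizer (R : Set G)) (hR : ¬ p ∣ Nat.card R)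
    (hyp : ∀ r ∈ R, Commute (y ^ p) r) (hnc : ∃ r ∈ R, ¬ Commute y r) :
    n + 1 = p ∧ Cfsg.IsIrrCharacter G χ ∧ n ∣ Nat.card R := by
  have hp : p.Prime := Fact.out
  set H := R ⊔ Subgroup.zpowers y with hH
  haveI := Fintype.ofFinite H
  have hUN : Subgroup.zpowers y ≤ Subgroup.normalizer (R : Set G) := Subgroup.zpowers_le.2 hyR
  set K := R.subgroupOf H with hK
  haveI : K.Normal := (Subgroup.normal_subgroupOf_iff_le_normalizer le_sup_left).2
    (sup_le Subgroup.le_normalizer hUN)
  haveI := Fintype.ofFinite K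
  have hyH : y ∈ H := Subgroup.mem_sup_right (Subgroup.mem_zpowers y)
  set y' : H := ⟨y, hyH⟩ with hy'
  have hgen : ∀ h : H, ∃ a ∈ K, ∃ u ∈ Subgroup.zpowers y', h = a * u := by
    intro h
    have h1 : (h : G) ∈ ((R ⊔ Subgroup.zpowers y : Subgroup G) : Set G) := h.2
    rw [sup_comm, Subgroup.coe_mul_of_left_le_normalizer_right _ _ hUN] at h1
    obtain ⟨u, hu, a, ha, hua⟩ := h1
    obtain ⟨i, hi⟩ := Subgroup.mem_zpowers_iff.1 hu
    refine ⟨y' ^ i * ⟨a, Subgroup.mem_sup_left ha⟩ * (y' ^ i)⁻¹,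
      (inferInstance : K.Normal).conj_mem _ ha _, y' ^ i, Subgroup.mem_zpowers_iff.2 ⟨i, rfl⟩,
      Subtype.ext ?_⟩
    simp only [Subgroup.coe_mul, inv_mul_cancel_right, SubgroupClass.coe_zpow, hy', hi]
    exact hua.symm
  have hKcard : Nat.card K = Nat.card R :=
    Nat.card_congr (Subgroup.subgroupOfEquivOfLe (le_sup_left : R ≤ H)).toEquiv
  obtain ⟨k, hk⟩ : ∃ k, orderOf y' = p ^ (k + 1) := by
    obtain ⟨m, hm⟩ := IsPGroup.iff_card.1 hy
    rw [Nat.card_zpowers] at hm
    rcases Nat.eq_zero_or_pos m with rfl | hm0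
    · obtain ⟨r, -, hrc⟩ := hnc
      rw [pow_zero, orderOf_eq_one_iff] at hm
      exact absurd (hm ▸ Commute.one_left r) hrc
    · exact ⟨m - 1, by rw [← Subgroup.orderOf_coe, hy', hm, Nat.sub_add_cancel hm0]⟩
  have hxp : y' ^ p ∈ Subgroup.center H := by
    refine Subgroup.mem_center_iff.2 fun h => ?_
    obtain ⟨a, ha, u, hu, rfl⟩ := hgen h
    obtain ⟨i, rfl⟩ := Subgroup.mem_zpowers_iff.1 hu
    have h1 : Commute a (y' ^ p) := Subtype.ext (by
      have h2 := (hyp _ (show (a : G) ∈ R from ha)).symm.eq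
      simpa [hy'] using h2)
    exact (h1.mul_left (((Commute.refl y').pow_right p).zpow_left i)).eq
  -- the constituents
  set F : H → ℂ := fun h => χ h with hF
  have hFc : Cfsg.IsCharacter H F := Characters.isCharacter_restrict H hχ
  obtain ⟨m, hm⟩ := Characters.exists_nat_coeff hFc
  have hdeg : n = ∑ φ : IrrCharacter H, m φ * Cfsg.charDegree (φ : H → ℂ) := by
    apply Nat.cast_injective (R := ℂ)
    rw [← hn, ← OneMemClass.coe_one H, show χ ((1 : H) : G) = F 1 from rfl, hm, Finset.sum_apply,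
      Nat.cast_sum]
    refine Finset.sum_congr rfl fun φ _ => ?_
    rw [Pi.smul_apply, smul_eq_mul, Nat.cast_mul, charDegree_cast]
  have hle : ∀ φ : IrrCharacter H, m φ * Cfsg.charDegree (φ : H → ℂ) ≤ n := fun φ => by
    rw [hdeg]
    exact Finset.single_le_sum (f := fun φ : IrrCharacter H => m φ * Cfsg.charDegree (φ : H → ℂ))
      (fun _ _ => Nat.zero_le _) (Finset.mem_univ φ)
  obtain ⟨φ, hφm, hφd⟩ : ∃ φ : IrrCharacter H, m φ ≠ 0 ∧
      ¬ Cfsg.charDegree (φ : H → ℂ) + 1 < p := by
    by_contra hno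
    simp only [not_exists, not_and, not_not] at hno
    obtain ⟨r, hr, hrc⟩ := hnc
    refine hrc ?_
    set r' : H := ⟨r, Subgroup.mem_sup_left hr⟩ with hr'
    have h1 : F (y' * r' * y'⁻¹ * r'⁻¹) = F 1 := by
      rw [hm, Finset.sum_apply, Finset.sum_apply]
      refine Finset.sum_congr rfl fun φ _ => ?_
      by_cases h0 : m φ = 0
      · simp [h0]
      obtain ⟨d, σ, hσ, hσφ⟩ := id φ.2
      haveI := hσ
      have hd : Cfsg.charDegree (φ : H → ℂ) = d := by
        rw [Cfsg.charDegree, ← hσφ, Representation.char_one]; simp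
      obtain ⟨c, hc⟩ := CharactersDeep.SmallDegree.scalar_of_small K y' hk
        (by rw [hKcard]; exact hR) hgen hxp σ (hd ▸ hno φ h0)
      simp only [Pi.smul_apply, ← hσφ, Representation.character]
      congr 2
      have h1 : σ y' * σ r' = σ r' * σ y' := by
        rw [hc]
        refine LinearMap.ext fun v => ?_
        simp
      rw [map_mul, map_mul, map_mul, h1, mul_assoc (σ r'), ← map_mul, mul_inv_cancel, map_one,
        mul_one, ← map_mul, mul_inv_cancel, map_one]
    have h2 := hfaith _ (show χ ((y' * r' * y'⁻¹ * r'⁻¹ : H) : G) = χ 1 from h1)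
    simp only [Subgroup.coe_mul, InvMemClass.coe_inv, hy', hr'] at h2
    exact commutatorElement_eq_one_iff_commute.1 (by rwa [commutatorElement_def])
  have hn1 : Cfsg.charDegree (φ : H → ℂ) ≤ n :=
    (Nat.le_mul_of_pos_left _ (Nat.pos_of_ne_zero hφm)).trans (hle φ)
  have hdn : Cfsg.charDegree (φ : H → ℂ) = n := by omega
  have hd0 : 0 < n := hdn ▸ Nat.pos_of_ne_zero (charDegree_ne_zero φ)
  have hmφ : m φ = 1 := by
    have h := hle φ
    rw [hdn] at h
    have : m φ ≤ 1 := Nat.le_of_mul_le_mul_right (by rwa [one_mul]) hd0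
    omega
  have hother : ∀ ψ : IrrCharacter H, ψ ≠ φ → m ψ = 0 := by
    intro ψ hne
    have h1 : m ψ * Cfsg.charDegree (ψ : H → ℂ) + m φ * Cfsg.charDegree (φ : H → ℂ) ≤ n := by
      rw [hdeg, ← Finset.sum_pair hne
        (f := fun ψ : IrrCharacter H => m ψ * Cfsg.charDegree (ψ : H → ℂ))]
      exact Finset.sum_le_sum_of_subset (Finset.subset_univ _)
    rw [hmφ, one_mul, hdn] at h1
    exact (mul_eq_zero.1 (by omega)).resolve_right (charDegree_ne_zero ψ)
  refine ⟨by omega, ?_, ?_⟩
  · -- irreducibility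
    obtain ⟨c, hc⟩ := Characters.exists_nat_coeff hχ
    have hl : ∀ η : IrrCharacter G, ∀ ψ : IrrCharacter H, ∃ l : ℕ,
        Cfsg.classInner (fun h : H => (η : G → ℂ) h) (ψ : H → ℂ) = l := fun η ψ =>
      Characters.classInner_character_irr
        (Characters.isCharacter_restrict H (Characters.isCharacter_of_isIrr η.2)) ψ.2
    choose l hl using hl
    have hsum : ∀ ψ : IrrCharacter H, ∑ η : IrrCharacter G, c η * l η ψ = m ψ := by
      intro ψ
      apply Nat.cast_injective (R := ℂ)
      push_cast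
      have h1 : F = ∑ η : IrrCharacter G, (c η : ℂ) • fun h : H => (η : G → ℂ) h := by
        funext h
        have := congrFun hc (h : G)
        simp only [hF, Finset.sum_apply, Pi.smul_apply] at this ⊢
        exact this
      have h2 : Cfsg.classInner F (ψ : H → ℂ) = (m ψ : ℂ) := by
        rw [hm, Characters.classInner_irr_coeff]
      rw [← h2, h1, Characters.classInner_sum_left]
      exact Finset.sum_congr rfl fun η _ => by rw [Characters.classInner_smul_left, hl]
    have hpos : ∀ η : IrrCharacter G, c η ≠ 0 → l η φ ≠ 0 := by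
      intro η hη h0
      refine Characters.irr_one_ne_zero η.2 ?_
      obtain ⟨a, ha⟩ := Characters.exists_nat_coeff
        (Characters.isCharacter_restrict H (Characters.isCharacter_of_isIrr η.2))
      have hall : ∀ ψ : IrrCharacter H, l η ψ = 0 := fun ψ => by
        by_cases hψ : ψ = φ
        · rw [hψ, h0]
        · have := Finset.sum_eq_zero_iff.1 ((hsum ψ).trans (hother ψ hψ)) η (Finset.mem_univ η)
          exact (mul_eq_zero.1 this).resolve_left hη
      have h1 : ∀ ψ : IrrCharacter H, (a ψ : ℂ) = 0 := fun ψ => by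
        have := hl η ψ
        rw [ha, Characters.classInner_irr_coeff, hall ψ, Nat.cast_zero] at this
        exact this
      have := congrFun ha 1
      simpa [h1] using this
    obtain ⟨η, hη⟩ : ∃ η : IrrCharacter G, c η ≠ 0 := by
      by_contra hno
      simp only [not_exists, not_not] at hno
      have := congrFun hc 1
      simp only [hno, Nat.cast_zero, zero_smul, Finset.sum_const_zero, Pi.zero_apply, hn] at this
      exact hd0.ne' (by exact_mod_cast this)
    have hsφ := hsum φ
    rw [hmφ, ← Finset.add_sum_erase _ _ (Finset.mem_univ η)] at hsφ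
    have h1 : 1 ≤ c η * l η φ := Nat.one_le_iff_ne_zero.2 (mul_ne_zero hη (hpos η hη))
    have hc1 : c η = 1 := (mul_eq_one.1 (by omega : c η * l η φ = 1)).1
    have hrest : ∀ η' : IrrCharacter G, η' ≠ η → c η' = 0 := by
      intro η' hne
      by_contra h
      have h2 : ∑ x ∈ Finset.univ.erase η, c x * l x φ = 0 := by omega
      exact mul_ne_zero h (hpos η' h)
        (Finset.sum_eq_zero_iff.1 h2 η' (Finset.mem_erase.2 ⟨hne, Finset.mem_univ η'⟩))
    have hχη : χ = (η : G → ℂ) := by
      rw [hc, Finset.sum_eq_single η]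
      · rw [hc1, Nat.cast_one, one_smul]
      · intro η' _ hne; rw [hrest η' hne, Nat.cast_zero, zero_smul]
      · simp
    exact hχη ▸ η.2
  · -- divisibility
    have hdvd := charDegree_dvd_card φ
    rw [hdn, ← K.card_mul_index, hKcard] at hdvd
    have hidx : K.index ∣ orderOf y' := by
      have htop : Subgroup.zpowers (QuotientGroup.mk' K y') = ⊤ := by
        refine eq_top_iff.2 fun q _ => ?_
        obtain ⟨h, rfl⟩ := QuotientGroup.mk'_surjective K q
        obtain ⟨a, ha, u, hu, rfl⟩ := hgen h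
        obtain ⟨i, rfl⟩ := Subgroup.mem_zpowers_iff.1 hu
        rw [map_mul, map_zpow, QuotientGroup.mk'_apply, QuotientGroup.mk'_apply,
          (QuotientGroup.eq_one_iff a).2 ha, one_mul]
        exact Subgroup.mem_zpowers_iff.2 ⟨i, rfl⟩
      rw [Subgroup.index_eq_card, ← Nat.card_congr (Subgroup.topEquiv).toEquiv, ← htop,
        Nat.card_zpowers]
      exact orderOf_map_dvd _ _
    have hcop : Nat.Coprime n (p ^ (k + 1)) := Nat.Coprime.pow_right _ <|
      (hp.coprime_iff_not_dvd.2 fun h => by have := Nat.le_of_dvd hd0 h; omega).symm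
    exact (hcop.coprime_dvd_right (hk ▸ hidx)).dvd_of_dvd_mul_right hdvd

/-- Reduction to the last power acting nontrivially. -/
theorem key {χ : G → ℂ} (hχ : Cfsg.IsCharacter G χ) (hfaith : ∀ g : G, χ g = χ 1 → g = 1)
    {n : ℕ} (hn : χ 1 = (n : ℂ)) (hnp : n + 1 ≤ p) {x : G} (hx : IsPGroup p (Subgroup.zpowers x))
    {R : Subgroup G} (hxR : x ∈ Subgroup.normalizer (R : Set G)) (hR : ¬ p ∣ Nat.card R)
    (hnc : ∃ r ∈ R, ¬ Commute x r) :
    n + 1 = p ∧ Cfsg.IsIrrCharacter G χ ∧ n ∣ Nat.card R := by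
  classical
  have hex : ∃ j, ∀ r ∈ R, Commute (x ^ p ^ j) r := by
    obtain ⟨m, hm⟩ := IsPGroup.iff_card.1 hx
    rw [Nat.card_zpowers] at hm
    exact ⟨m, fun r _ => by rw [← hm, pow_orderOf_eq_one]; exact Commute.one_left r⟩
  obtain ⟨j, hj, hmin⟩ : ∃ j, (∀ r ∈ R, Commute (x ^ p ^ j) r) ∧
      ∀ i, i < j → ¬ ∀ r ∈ R, Commute (x ^ p ^ i) r :=
    ⟨Nat.find hex, Nat.find_spec hex, fun i hi => Nat.find_min hex hi⟩
  rcases Nat.eq_zero_or_pos j with rfl | hj0
  · obtain ⟨r, hr, hrc⟩ := hnc
    exact absurd (by simpa using hj r hr) hrc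
  have hy := hmin (j - 1) (by omega)
  simp only [not_forall] at hy
  obtain ⟨r, hr, hrc⟩ := hy
  refine key_step (y := x ^ p ^ (j - 1)) hχ hfaith hn hnp
    (hx.to_le (Subgroup.zpowers_le.2 (Subgroup.pow_mem _ (Subgroup.mem_zpowers x) _)))
    (Subgroup.pow_mem _ hxR _) hR (fun s hs => ?_) ⟨r, hr, hrc⟩
  rw [← pow_mul, ← pow_succ, Nat.sub_add_cancel hj0]
  exact hj s hs

/-- **p-solvable linear groups of degree at most `p - 1`.** -/
theorem small_degree {χ : G → ℂ} (hχ : Cfsg.IsCharacter G χ)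
    (hfaith : ∀ g : G, χ g = χ 1 → g = 1) {n : ℕ} (hn : χ 1 = (n : ℂ)) (hnp : n + 1 ≤ p)
    (hsolv : Cfsg.IsPSolvable p G) (P : Sylow p G) (hP : ¬ (P : Subgroup G).Normal) :
    n + 1 = p ∧ (∃ k : ℕ, n = 2 ^ k) ∧ Cfsg.IsIrrCharacter G χ := by
  classical
  have hp : p.Prime := Fact.out
  obtain ⟨d, ρ, hρ⟩ := id hχ
  have hdn : d = n := by
    rw [← hρ, Representation.char_one, Module.finrank_fin_fun] at hn
    exact_mod_cast hn
  subst hdn
  have hinj : Function.Injective ρ := by
    intro a b hab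
    refine inv_mul_eq_one.1 (hfaith _ ?_)
    rw [← hρ, Representation.character, Representation.character, map_mul, ← hab, ← map_mul,
      inv_mul_cancel]
  have hab := CharactersDeep.SmallDegree.comm_of_isPGroup (p := p) (by omega) ρ hinj P.isPGroup'
  set N := Cfsg.pPrimeCore p G with hNdef
  have hNcop : (Nat.card N).Coprime p := PLocal.coprime_card_pPrimeCore p G
  -- some element of `P` acts nontrivially on `N`
  obtain ⟨x, hxP, hxN⟩ : ∃ x ∈ (P : Subgroup G), ∃ r ∈ N, ¬ Commute x r := by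
    by_contra hno
    push Not at hno
    refine hP (Subgroup.normalizer_eq_top_iff.1 (top_le_iff.1 ?_))
    set f := QuotientGroup.mk' N with hf
    set Q := Cfsg.pCore p (G ⧸ N) with hQ
    have hPQ : (P : Subgroup G).map f ≤ Q := by
      refine le_trans (fun a ha => Subgroup.mem_centralizer_iff.2 fun b hb => ?_)
        (PLocal.centralizer_pCore_le (PLocal.isPSolvable_quotient hsolv N)
          (PLocal.pPrimeCore_quotient_pPrimeCore_eq_bot p G))
      obtain ⟨a, ha', rfl⟩ := ha
      obtain ⟨b, hb', rfl⟩ := PLocal.pCore_le_sylow (P.mapSurjective (QuotientGroup.mk'_surjective N)) hb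
      show f b * f a = f a * f b
      rw [← map_mul, ← map_mul, hab b hb' a ha']
    set M := (P : Subgroup G) ⊔ N with hM
    have hMeq : M = Q.comap f := by
      refine le_antisymm (sup_le (Subgroup.map_le_iff_le_comap.1 hPQ) ?_) fun g hg => ?_
      · intro a ha
        rw [Subgroup.mem_comap, hf, QuotientGroup.mk'_apply, (QuotientGroup.eq_one_iff a).2 ha]
        exact one_mem _
      · obtain ⟨b, hb, hbg⟩ :=
          PLocal.pCore_le_sylow (P.mapSurjective (QuotientGroup.mk'_surjective N)) hg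
        have h2 : b⁻¹ * g ∈ N := QuotientGroup.eq.1 hbg
        have := Subgroup.mul_mem_sup (show b ∈ (P : Subgroup G) from hb) h2
        rwa [mul_inv_cancel_left] at this
    haveI : M.Normal := by rw [hMeq]; exact Subgroup.Normal.comap inferInstance f
    rw [← Sylow.normalizer_sup_eq_top' P (le_sup_left : (P : Subgroup G) ≤ M)]
    refine sup_le le_rfl (sup_le Subgroup.le_normalizer fun r hr => ?_)
    refine Subgroup.centralizer_le_normalizer _ (Subgroup.mem_centralizer_iff.2 fun u hu => ?_)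
    exact (hno u hu r hr).eq
  set A := Subgroup.zpowers x with hA
  have hAp : IsPGroup p A := P.isPGroup'.to_le (Subgroup.zpowers_le.2 hxP)
  have hNp : ¬ p ∣ Nat.card N := (hp.coprime_iff_not_dvd).1 hNcop.symm
  have hxNn : x ∈ Subgroup.normalizer (N : Set G) := by
    rw [Subgroup.normalizer_eq_top]; exact Subgroup.mem_top x
  obtain ⟨h1, h2, -⟩ := key hχ hfaith hn hnp hAp hxNn hNp hxN
  refine ⟨h1, ?_, h2⟩
  -- some invariant Sylow subgroup of `N` is moved
  haveI := hAp.isNilpotent
  have hcop : (Nat.card A).Coprime (Nat.card N) := by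
    obtain ⟨j, hj⟩ := IsPGroup.iff_card.1 hAp
    rw [hj]
    exact Nat.Coprime.pow_left _ hNcop.symm
  have hAN : A ≤ Subgroup.normalizer (N : Set G) := Subgroup.zpowers_le.2 hxNn
  obtain ⟨q, hq, S, hS, hmove⟩ : ∃ q : ℕ, q.Prime ∧ ∃ S : Sylow q N,
      x ∈ Subgroup.normalizer (((S : Subgroup N).map N.subtype : Subgroup G) : Set G) ∧
      ∃ r ∈ (S : Subgroup N).map N.subtype, ¬ Commute x r := by
    by_contra hno
    push Not at hno
    obtain ⟨r, hr, hrc⟩ := hxN
    refine hrc ?_
    have hinv : ∀ q : (Nat.card N).primeFactors, ∃ S : Sylow (q : ℕ) N,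
        (S : Subgroup N).map N.subtype ≤ Subgroup.centralizer ({x} : Set G) := by
      intro q
      haveI := Fact.mk (Nat.prime_of_mem_primeFactors q.2)
      obtain ⟨S, hS⟩ := Coprime.exists_invariant_sylow hAN hcop (Or.inl inferInstance) (q : ℕ)
      exact ⟨S, fun s hs => Subgroup.mem_centralizer_singleton_iff.2
        (hno q (Nat.prime_of_mem_primeFactors q.2) S (hS (Subgroup.mem_zpowers x)) s hs).symm.eq⟩
    choose S hS using hinv
    have htop := congrArg (Subgroup.map N.subtype) (Solvable.iSup_sylow_eq_top (G := N) S)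
    rw [Subgroup.map_iSup, ← MonoidHom.range_eq_map, Subgroup.range_subtype] at htop
    have : N ≤ Subgroup.centralizer ({x} : Set G) := htop ▸ iSup_le hS
    exact (Subgroup.mem_centralizer_singleton_iff.1 (this hr)).symm
  haveI := Fact.mk hq
  obtain ⟨j, hj⟩ := IsPGroup.iff_card.1 (S.isPGroup'.map N.subtype)
  have hnd : ¬ p ∣ Nat.card ((S : Subgroup N).map N.subtype) := fun h =>
    hNp (h.trans (Subgroup.card_dvd_of_le (Subgroup.map_subtype_le _)))
  obtain ⟨-, -, h3⟩ := key hχ hfaith hn hnp hAp hS hnd hmove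
  rw [hj] at h3
  obtain ⟨i, -, hi⟩ := (Nat.dvd_prime_pow hq).1 h3
  rcases Nat.eq_zero_or_pos i with rfl | hi0
  · exact ⟨0, by rw [hi, pow_zero, pow_zero]⟩
  refine ⟨i, ?_⟩
  rcases hp.eq_two_or_odd' with h4 | h4
  · have : 1 < q ^ i := one_lt_pow₀ hq.one_lt hi0.ne'
    omega
  · obtain ⟨c, hc⟩ := h4
    have h5 : 2 ∣ q ^ i := ⟨c, by omega⟩
    have h6 := (Nat.prime_dvd_prime_iff_eq Nat.prime_two hq).1 (Nat.prime_two.dvd_of_dvd_pow h5)
    rw [hi, ← h6]

end CfsgLib.PSolvableLinear
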