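import Cfsg.Agent.PSolvableLinear.FixedKernel
import Cfsg.Agent.PLocal.PPrimeConstraint
import Cfsg.Agent.Coprime.SchurZassenhaus

/-!
# The index of the p-core in a p-solvable linear group
-/

set_option autoImplicit false
set_option linter.unusedSectionVars false
set_option linter.style.haveILetI false

namespace CfsgLib.PSolvableLinear

open Cfsg
open scoped Pointwise

universe u

variable {G : Type u} [Group G] [Fintype G] {p : ℕ} [Fact p.Prime]

theorem sylow_index_bound {χ : G → ℂ} (hχ : Cfsg.IsCharacter G χ)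
    (hfaith : ∀ g : G, χ g = χ 1 → g = 1) {n : ℕ} (hn : χ 1 = (n : ℂ))
    (hsolv : Cfsg.IsPSolvable p G) :
    (Cfsg.pCore p G).index.factorization p ≤ ∑ i ∈ Finset.range (n + 1), n / ((p - 1) * p ^ i) := by
  classical
  have hp : p.Prime := Fact.out
  set O := Cfsg.pCore p G with hOdef
  set f := QuotientGroup.mk' O with hf
  set F := Cfsg.pPrimeCore p (G ⧸ O) with hF
  set K := F.comap f with hK
  haveI : K.Normal := Subgroup.Normal.comap inferInstance f
  have hOK : O ≤ K := fun x hx => by
    rw [hK, Subgroup.mem_comap, hf, QuotientGroup.mk'_apply, (QuotientGroup.eq_one_iff x).2 hx]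
    exact one_mem _
  have hmapK : K.map f = F := Subgroup.map_comap_eq_self_of_surjective (QuotientGroup.mk'_surjective O) _
  have hrel : O.relIndex K = Nat.card F := by
    have h := Subgroup.relIndex_ker (K := K) f
    rwa [hmapK, hf, QuotientGroup.ker_mk'] at h
  have hFp : ¬ p ∣ Nat.card F := PLocal.not_dvd_iff_coprime.1 (PLocal.coprime_card_pPrimeCore p (G ⧸ O))
  have hOp : IsPGroup p O := PLocal.isPGroup_pCore p G
  have hcopOF : (Nat.card O).Coprime (Nat.card F) := by
    obtain ⟨j, hj⟩ := IsPGroup.iff_card.1 hOp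
    rw [hj]
    exact Nat.Coprime.pow_left _ (hp.coprime_iff_not_dvd.2 hFp)
  -- a complement
  have hcO : Nat.card (O.subgroupOf K) = Nat.card O :=
    Nat.card_congr (Subgroup.subgroupOfEquivOfLe hOK).toEquiv
  haveI : (O.subgroupOf K).Normal := Subgroup.normal_subgroupOf
  obtain ⟨Q₀, hQ₀⟩ := Subgroup.exists_right_complement'_of_coprime (N := O.subgroupOf K)
    (by rw [hcO, show (O.subgroupOf K).index = O.relIndex K from rfl, hrel]; exact hcopOF)
  set Q := Q₀.map K.subtype with hQ
  have hQcard : Nat.card Q = Nat.card F := by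
    rw [hQ, Subgroup.card_map_of_injective K.subtype_injective, ← hQ₀.symm.index_eq_card]
    exact hrel
  have hQK : Q ≤ K := Subgroup.map_subtype_le _
  have hOQ : O ⊔ Q = K := by
    have h := congrArg (Subgroup.map K.subtype) hQ₀.sup_eq_top
    rwa [Subgroup.map_sup, Subgroup.map_subgroupOf_eq_of_le hOK, ← MonoidHom.range_eq_map,
      Subgroup.range_subtype] at h
  -- `M = K P` and its intersection with the normalizer
  obtain ⟨P⟩ := (inferInstance : Nonempty (Sylow p G))
  set M := K ⊔ (P : Subgroup G) with hM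
  have hKM : K ≤ M := le_sup_left
  set X := Subgroup.normalizer (Q : Set G) ⊓ M with hX
  obtain ⟨i, hi⟩ : ∃ i, K.relIndex M = p ^ i := by
    obtain ⟨j, hj⟩ := IsPGroup.iff_card.1 P.isPGroup'
    have h : K.relIndex M ∣ p ^ j := by
      rw [hM, Subgroup.relIndex_sup_left, ← hj]
      exact Subgroup.index_dvd_card _
    obtain ⟨i, -, hi⟩ := (Nat.dvd_prime_pow hp).1 h
    exact ⟨i, hi⟩
  have hXK : X ⊔ K = M := by
    refine le_antisymm (sup_le inf_le_right le_sup_left) fun m hm => ?_
    have hmK : MulAut.conj m • K = K := Coprime.conj_smul_eq_self (by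
      rw [Subgroup.normalizer_eq_top]; exact Subgroup.mem_top m)
    have hmO : MulAut.conj m • O = O := Coprime.conj_smul_eq_self (by
      rw [Subgroup.normalizer_eq_top]; exact Subgroup.mem_top m)
    obtain ⟨o, ho, hoQ⟩ := Coprime.exists_conj_eq_of_sup_eq (N := O) (H := Q)
      (K := MulAut.conj m • Q) Subgroup.le_normalizer_of_normal Subgroup.le_normalizer_of_normal
      (by rw [hQcard]; exact hcopOF) (Coprime.card_conj_smul m Q)
      (by
        have h := congrArg (fun H => MulAut.conj m • H) hOQ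
        simp only [Subgroup.smul_sup, hmK, hmO] at h
        rw [h, hOQ])
      (Or.inl (by haveI := hOp.isNilpotent; infer_instance))
    have h1 : o⁻¹ * m ∈ X := by
      refine ⟨Coprime.mem_normalizer_iff_conj_smul_eq.2 ?_,
        M.mul_mem (M.inv_mem (hKM (hOK ho))) hm⟩
      rw [← Coprime.conj_smul_conj_smul, ← hoQ, Coprime.conj_smul_conj_smul, inv_mul_cancel,
        map_one, one_smul]
    have h2 := Subgroup.mul_mem_sup h1 ((inferInstance : K.Normal).conj_mem _ (hOK ho) m⁻¹)
    have h3 : (o⁻¹ * m) * (m⁻¹ * o * m⁻¹⁻¹) = m := by group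
    rwa [h3] at h2
  have hQX : Q ≤ X := le_inf Subgroup.le_normalizer (hQK.trans le_sup_left)
  set Q' := Q.subgroupOf X with hQ'
  haveI : Q'.Normal := (Subgroup.normal_subgroupOf_iff_le_normalizer hQX).2 inf_le_left
  have hQ'card : Nat.card Q' = Nat.card F :=
    (Nat.card_congr (Subgroup.subgroupOfEquivOfLe hQX).toEquiv).trans hQcard
  have hq : IsPGroup p (X ⧸ Q') := by
    obtain ⟨j, hj⟩ := IsPGroup.iff_card.1 hOp
    have h1 : Nat.card Q' * Q'.index ∣ Nat.card F * p ^ (j + i) := by
      rw [Q'.card_mul_index]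
      refine (Subgroup.card_dvd_of_le (inf_le_right : X ≤ M)).trans (dvd_of_eq ?_)
      rw [← PLocal.card_mul_relIndex (le_sup_left : K ≤ M), ← PLocal.card_mul_relIndex hOK, hrel,
        hi, hj]
      ring
    rw [hQ'card] at h1
    obtain ⟨l, -, hl⟩ := (Nat.dvd_prime_pow hp).1 (Nat.dvd_of_mul_dvd_mul_left Nat.card_pos h1)
    exact IsPGroup.of_card hl
  haveI := Fintype.ofFinite X
  have hb := factorization_index_le Q' (by rw [hQ'card]; exact hFp) hq
    (Characters.isCharacter_restrict X hχ) (fun x hx => Subtype.ext (hfaith _ hx))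
    (n := n) (by simpa using hn)
  refine le_trans (le_of_eq ?_) (le_trans
    ((Nat.factorization_le_iff_dvd (Subgroup.index_ne_zero_of_finite (H := K.subgroupOf X))
      Subgroup.index_ne_zero_of_finite).2 (Subgroup.index_dvd_of_le ?_) p) hb)
  · have h1 : O.index = Nat.card F * K.relIndex X * M.index := by
      rw [← Subgroup.relIndex_mul_index hOK, hrel,
        ← Subgroup.relIndex_mul_index hKM, show K.relIndex M = K.relIndex X by
          rw [← hXK, Subgroup.relIndex_sup_right], mul_assoc]
    have hM' : ¬ p ∣ M.index := fun h => P.not_dvd_index (h.trans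
      (Subgroup.index_dvd_of_le (le_sup_right : (P : Subgroup G) ≤ M)))
    have h0 : K.relIndex X ≠ 0 := Subgroup.index_ne_zero_of_finite (H := K.subgroupOf X)
    rw [h1, Nat.factorization_mul (Nat.mul_ne_zero Nat.card_pos.ne' h0)
      Subgroup.index_ne_zero_of_finite, Nat.factorization_mul Nat.card_pos.ne' h0,
      Finsupp.add_apply, Finsupp.add_apply, Nat.factorization_eq_zero_of_not_dvd hFp,
      Nat.factorization_eq_zero_of_not_dvd hM', zero_add, add_zero]
    rfl
  · refine sup_le (fun x hx => hQK hx) fun x hx => ?_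
    rw [Subgroup.mem_subgroupOf, hK, Subgroup.mem_comap]
    refine PLocal.centralizer_pPrimeCore_le (PLocal.isPSolvable_quotient hsolv O)
      (PLocal.pCore_quotient_pCore_eq_bot p G) (Subgroup.mem_centralizer_iff.2 fun y hy => ?_)
    have hy' : y ∈ (O ⊔ Q).map f := by rw [hOQ, hmapK]; exact hy
    rw [Subgroup.map_sup, (Subgroup.map_eq_bot_iff O).2 (by rw [hf, QuotientGroup.ker_mk']),
      bot_sup_eq] at hy'
    obtain ⟨q, hq', rfl⟩ := hy'
    have h := congrArg Subtype.val (Subgroup.mem_centralizer_iff.1 hx ⟨q, hQX hq'⟩ hq')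
    rw [← map_mul, ← map_mul]
    exact congrArg f h

end CfsgLib.PSolvableLinear
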